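import Cfsg.Agent.Characters.Central
import Cfsg.Agent.Characters.Core
import Cfsg.Agent.Characters.GaloisBasic
import Cfsg.Agent.H669.Basic
import Cfsg.Agent.S0876
import Mathlib
import Cfsg.Agent.FastGrp
import Cfsg.Agent.Prune
set_option linter.all false

section
prune_inst 0x7f00000000000000000000000000000000000000000000000000000000000000000000000000000000000000000000000000000000000000000000000000000000000000000000000000000000000000003fffffffffffffffffffffffffffbeffbdfbfeffff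

-- part: H407/TI/Over
section
set_option linter.all false
open scoped Cfsg.Agent.FastGrp

-- merged: Over
section

/-!
# Characters over a linear character of a central subgroup

* `Over Z lam χ`; `sum_over` : column orthogonality over `lam` for elements of odd order, `Z` a `2`-group;
* `exists_mult` : the multiplicities of the restriction to a cyclic group;
* `pow_degree` : `lam z ^ χ(1) = 1` in a perfect group.
-/

set_option autoImplicit false

namespace Cfsg.Agent.H407.TI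

open Cfsg Cfsg.Agent.Characters.Core Cfsg.Agent.Characters.GaloisBasic
open scoped ComplexConjugate

universe u

variable {E : Type u} [Group E]

/-- `χ` lies over the linear character `lam` of `Z` -/
def Over (Z : Subgroup E) (lam : Z →* ℂˣ) (χ : E → ℂ) : Prop :=
  ∀ (z : Z) (g : E), χ (z * g) = (lam z : ℂ) * χ g

/-- central elements act by scalars -/
theorem central_mul [Finite E] {χ : E → ℂ} (hχ : IsIrrCharacter E χ) {z : E} (hz : ∀ g, z * g = g * z) (y : E) :
    χ (z * y) = χ z / χ 1 * χ y := by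
  classical
  have := Fintype.ofFinite E
  have h := Cfsg.Agent.Characters.Central.sum_char_conj_mul hχ z y
  have h1 : ∀ a : E, a * z * a⁻¹ * y = z * y := by
    intro a; rw [← hz a]; group
  rw [Finset.sum_congr rfl fun a _ => by rw [h1 a], Finset.sum_const, Finset.card_univ,
    ← Nat.card_eq_fintype_card, nsmul_eq_mul] at h
  have hE : (Nat.card E : ℂ) ≠ 0 := by exact_mod_cast Nat.card_pos.ne'
  have h2 : χ 1 ≠ 0 := isIrr_apply_one_ne_zero hχ
  field_simp
  field_simp at h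
  linear_combination h

/-- orthogonality over a central subgroup -/
theorem sum_lam [Finite E] {Z : Subgroup E} [Fintype Z] (hZ : Z ≤ Subgroup.center E) (lam : Z →* ℂˣ) {χ : E → ℂ}
    (hχ : IsIrrCharacter E χ) [Decidable (Over Z lam χ)] (g : E) :
    ∑ z : Z, ((lam z)⁻¹ : ℂˣ) * χ (z * g) = if Over Z lam χ then (Nat.card Z : ℂ) * χ g else 0 := by
  classical
  have h1 : χ 1 ≠ 0 := isIrr_apply_one_ne_zero hχ
  have hc : ∀ z : Z, ∀ g, (z : E) * g = g * z := fun z g => (Subgroup.mem_center_iff.1 (hZ z.2) g).symm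
  split_ifs with h
  · rw [Finset.sum_congr rfl fun z _ => by rw [h z g, ← mul_assoc, ← Units.val_mul, inv_mul_cancel, Units.val_one,
      one_mul], Finset.sum_const, Finset.card_univ, ← Nat.card_eq_fintype_card, nsmul_eq_mul]
  · have h2 : ∃ z₀ : Z, χ z₀ / χ 1 ≠ lam z₀ := by
      by_contra hno
      push Not at hno
      exact h fun z g => by rw [central_mul hχ (hc z) g, hno z]
    obtain ⟨z₀, hz₀⟩ := h2
    set S : ℂ := ∑ z : Z, ((lam z)⁻¹ : ℂˣ) * χ z with hS
    have h3 : S = ((lam z₀)⁻¹ : ℂˣ) * (χ z₀ / χ 1) * S := by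
      rw [hS, Finset.mul_sum]
      refine (Fintype.sum_equiv (Equiv.mulLeft z₀) _ _ fun z => ?_).symm
      rw [Equiv.coe_mulLeft, map_mul, mul_inv, Units.val_mul, Subgroup.coe_mul, central_mul hχ (hc z₀) z]
      ring
    have h4 : S = 0 := by
      by_contra hne
      have h5 : ((lam z₀)⁻¹ : ℂˣ) * (χ z₀ / χ 1) = 1 :=
        mul_right_cancel₀ hne (by rw [one_mul]; exact h3.symm)
      apply hz₀
      have h6 : (lam z₀ : ℂ) ≠ 0 := (lam z₀).ne_zero
      rw [Units.val_inv_eq_inv_val] at h5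
      field_simp at h5 ⊢
      exact h5
    have h7 : ∀ z ∈ (Finset.univ : Finset Z), (((lam z)⁻¹ : ℂˣ) : ℂ) * χ (z * g) =
        (((lam z)⁻¹ : ℂˣ) : ℂ) * χ z * (χ g / χ 1) := by
      intro z _
      rw [central_mul hχ (hc z) g]
      ring
    rw [Finset.sum_congr rfl h7, ← Finset.sum_mul, ← hS, h4, zero_mul]

/-- a `2`-group has no element of odd order -/
theorem eq_one_of_odd {Z : Subgroup E} (h2 : IsPGroup 2 Z) {z : E} (hz : z ∈ Z) {m : ℕ} (hm : Odd m)
    (h : z ^ m = 1) : z = 1 := by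
  obtain ⟨k, hk⟩ := h2 ⟨z, hz⟩
  have h3 : z ^ 2 ^ k = 1 := by
    have := congrArg (Subgroup.subtype Z) hk
    simpa using this
  have h4 : orderOf z ∣ 1 := by
    have h5 : Nat.Coprime (2 ^ k) m := Nat.Coprime.pow_left k (Nat.coprime_two_left.2 hm)
    rw [← h5]
    exact Nat.dvd_gcd (orderOf_dvd_of_pow_eq_one h3) (orderOf_dvd_of_pow_eq_one h)
  exact orderOf_eq_one_iff.1 (Nat.dvd_one.1 h4)

/-- **Column orthogonality over `lam`**, elements of odd order. -/
theorem sum_over [Finite E] [Fintype (IrrCharacter E)] {Z : Subgroup E} (hZ : Z ≤ Subgroup.center E)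
    (h2 : IsPGroup 2 Z) (lam : Z →* ℂˣ) [DecidablePred fun χ : IrrCharacter E => Over Z lam (χ : E → ℂ)] {g h : E}
    (hg : Odd (orderOf g)) (hh : Odd (orderOf h)) :
    ∑ χ ∈ Finset.univ.filter (fun χ : IrrCharacter E => Over Z lam (χ : E → ℂ)), (χ : E → ℂ) g * conj ((χ : E → ℂ) h) =
      (Nat.card {x : E // x * g * x⁻¹ = h} : ℂ) / Nat.card Z := by
  classical
  have := Fintype.ofFinite E
  have := Fintype.ofFinite Z
  have hZ0 : (Nat.card Z : ℂ) ≠ 0 := by exact_mod_cast Nat.card_pos.ne'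
  rw [eq_div_iff hZ0, Finset.sum_mul, Finset.sum_filter]
  have h3 : ∀ χ : IrrCharacter E, (if Over Z lam (χ : E → ℂ) then
      (χ : E → ℂ) g * conj ((χ : E → ℂ) h) * (Nat.card Z : ℂ) else 0) =
      ∑ z : Z, (((lam z)⁻¹ : ℂˣ) : ℂ) * ((χ : E → ℂ) (z * g) * conj ((χ : E → ℂ) h)) := by
    intro χ
    have h4 := sum_lam hZ lam χ.2 g
    rw [Finset.sum_congr rfl fun z _ => (mul_assoc _ _ _).symm, ← Finset.sum_mul, h4]
    split_ifs <;> ring
  rw [Finset.sum_congr rfl fun χ _ => h3 χ, Finset.sum_comm, Finset.sum_congr rfl fun z _ => by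
    rw [← Finset.mul_sum, S0876.sum_irr_mul_conj]]
  rw [Finset.sum_eq_single (1 : Z)]
  · rw [map_one, inv_one, Units.val_one, one_mul, Subgroup.coe_one, one_mul]
  · intro z _ hz
    have : IsEmpty {x : E // x * (z * g) * x⁻¹ = h} := by
      refine ⟨fun ⟨x, hx⟩ => hz ?_⟩
      have hzc : ∀ y, (z : E) * y = y * z := fun y => (Subgroup.mem_center_iff.1 (hZ z.2) y).symm
      have h4 : ((z : E) * g) ^ (orderOf g * orderOf h) = 1 := by
        have h5 : (z : E) * g = x⁻¹ * h * x := by rw [← hx]; group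
        rw [h5, show x⁻¹ * h * x = x⁻¹ * h * (x⁻¹)⁻¹ by group, conj_pow, pow_mul', pow_orderOf_eq_one, one_pow]
        group
      rw [(show Commute (z : E) g from hzc g).mul_pow, pow_mul g, pow_orderOf_eq_one, one_pow, mul_one] at h4
      exact Subtype.ext (eq_one_of_odd h2 z.2 (hg.mul hh) h4)
    rw [Nat.card_of_isEmpty, Nat.cast_zero, mul_zero]
  · intro h4
    exact absurd (Finset.mem_univ _) h4

/-- multiplicities in the restriction to a cyclic group -/
theorem exists_mult {χ : E → ℂ} (hχ : IsCharacter E χ) {g : E} {p : ℕ} (hp : p ≠ 0) (hg : g ^ p = 1) {w : ℂ}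
    (hw : w ^ p = 1) : ∃ n : ℕ, ∑ k ∈ Finset.range p, χ (g ^ k) * w ^ k = p * n := by
  obtain ⟨d, μ, -, h1, h2⟩ := isCharacter_exists_fin_pow hχ g hp hg
  rw [Finset.sum_congr rfl fun k _ => by rw [h2 k, Finset.sum_mul], Finset.sum_comm]
  have h3 : ∀ i : Fin d, ∃ n : ℕ, ∑ k ∈ Finset.range p, μ i ^ k * w ^ k = p * n := by
    intro i
    by_cases h : μ i * w = 1
    · refine ⟨1, ?_⟩
      rw [Finset.sum_congr rfl fun k _ => by rw [← mul_pow, h, one_pow], Finset.sum_const, Finset.card_range]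
      simp
    · refine ⟨0, ?_⟩
      rw [Finset.sum_congr rfl fun k _ => by rw [← mul_pow], geom_sum_eq h, mul_pow, h1 i, hw]
      simp
  choose n hn using h3
  refine ⟨∑ i, n i, ?_⟩
  rw [Finset.sum_congr rfl fun i _ => hn i, ← Finset.mul_sum]
  push_cast
  rfl

/-- the determinant of a central element in a perfect group -/
theorem pow_degree [Finite E] (hperf : commutator E = ⊤) {χ : E → ℂ} (hχ : IsIrrCharacter E χ) {Z : Subgroup E}
    (hZ : Z ≤ Subgroup.center E) {lam : Z →* ℂˣ} (h : Over Z lam χ) (z : Z) : (lam z : ℂ) ^ charDegree χ = 1 := by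
  obtain ⟨n, ρ, hρ, rfl⟩ := hχ
  have hn : charDegree ρ.character = n := H669.Basic.charDegree_of_natCast (by simp)
  rw [hn]
  obtain ⟨c, hc⟩ := Cfsg.Agent.Characters.Central.exists_smul_of_comm ρ hρ (ρ z) (fun g => by
    rw [← map_mul, ← map_mul, (Subgroup.mem_center_iff.1 (hZ z.2) g)])
  have h1 : ρ.character z = c * n := by
    rw [Representation.character, hc, map_smul, LinearMap.trace_one]
    simp
  have h2 : ρ.character z = lam z * n := by
    have := h z 1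
    rw [mul_one, Representation.char_one] at this
    simpa using this
  have hn0 : (n : ℂ) ≠ 0 := by
    have h3 := Cfsg.Agent.Characters.Central.char_one_ne_zero ρ hρ
    rw [Representation.char_one] at h3
    simpa using h3
  have h3 : c = lam z := mul_right_cancel₀ hn0 (h1.symm.trans h2)
  let δ : E →* ℂˣ := MonoidHom.toHomUnits (LinearMap.det.comp ρ)
  have h4 : δ (z : E) = 1 := by
    have h5 : (z : E) ∈ commutator E := by rw [hperf]; trivial
    exact Abelianization.commutator_subset_ker δ h5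
  have h5 : ((δ (z : E) : ℂˣ) : ℂ) = LinearMap.det (ρ z) := rfl
  rw [h4, hc, LinearMap.det_smul, map_one, mul_one, Units.val_one] at h5
  rw [← h3]
  simpa using h5.symm

end Cfsg.Agent.H407.TI

end

-- merged: L34Val
section

/-!
# Values at elements of order 5 and 7
-/

set_option autoImplicit false

namespace Cfsg.Agent.H407.TI

open Cfsg Cfsg.Agent.Characters.Core

universe u

/-- a primitive fifth root of unity and its periods -/
theorem exists_five : ∃ ζ : ℂ, ζ ^ 5 = 1 ∧ 1 + ζ + ζ ^ 2 + ζ ^ 3 + ζ ^ 4 = 0 ∧ ζ + ζ ^ 4 ≠ ζ ^ 2 + ζ ^ 3 := by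
  have h := Complex.isPrimitiveRoot_exp 5 (by norm_num)
  set ζ : ℂ := Complex.exp (2 * Real.pi * Complex.I / (5 : ℕ)) with hζ
  have h1 : ζ ^ 5 = 1 := h.pow_eq_one
  have h2 := h.geom_sum_eq_zero (by norm_num)
  simp only [Finset.sum_range_succ, Finset.sum_range_zero, pow_zero, pow_one, zero_add] at h2
  refine ⟨ζ, h1, h2, fun h3 => ?_⟩
  have h4 : (ζ + ζ ^ 4) * (ζ ^ 2 + ζ ^ 3) = -1 := by
    linear_combination (ζ + ζ ^ 2) * h1 + h2
  have h5 : (ζ + ζ ^ 4) + (ζ ^ 2 + ζ ^ 3) = -1 := by linear_combination h2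
  rw [← h3] at h4 h5
  have h6 : ζ + ζ ^ 4 = -1 / 2 := by linear_combination h5 / 2
  rw [h6] at h4
  norm_num at h4

/-- a primitive seventh root of unity and its periods -/
theorem exists_seven : ∃ ζ : ℂ, ζ ^ 7 = 1 ∧ 1 + ζ + ζ ^ 2 + ζ ^ 3 + ζ ^ 4 + ζ ^ 5 + ζ ^ 6 = 0 ∧
    ζ + ζ ^ 2 + ζ ^ 4 ≠ ζ ^ 3 + ζ ^ 5 + ζ ^ 6 := by
  have h := Complex.isPrimitiveRoot_exp 7 (by norm_num)
  set ζ : ℂ := Complex.exp (2 * Real.pi * Complex.I / (7 : ℕ)) with hζ
  have h1 : ζ ^ 7 = 1 := h.pow_eq_one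
  have h2 := h.geom_sum_eq_zero (by norm_num)
  simp only [Finset.sum_range_succ, Finset.sum_range_zero, pow_zero, pow_one, zero_add] at h2
  refine ⟨ζ, h1, h2, fun h3 => ?_⟩
  have h4 : (ζ + ζ ^ 2 + ζ ^ 4) * (ζ ^ 3 + ζ ^ 5 + ζ ^ 6) = 2 := by
    linear_combination (ζ + ζ ^ 2 + ζ ^ 3 + 3) * h1 + h2
  have h5 : (ζ + ζ ^ 2 + ζ ^ 4) + (ζ ^ 3 + ζ ^ 5 + ζ ^ 6) = -1 := by linear_combination h2
  rw [← h3] at h4 h5
  have h6 : ζ + ζ ^ 2 + ζ ^ 4 = -1 / 2 := by linear_combination h5 / 2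
  rw [h6] at h4
  norm_num at h4

variable {E : Type u} [Group E]

/-- values at the elements of order 5 -/
theorem val_five {ζ : ℂ} (h5 : ζ ^ 5 = 1) (hs : 1 + ζ + ζ ^ 2 + ζ ^ 3 + ζ ^ 4 = 0) {χ : E → ℂ}
    (hχ : IsCharacter E χ) {y : E} (hy : y ^ 5 = 1) (h4 : χ (y ^ 4) = χ y) (h3 : χ (y ^ 3) = χ (y ^ 2)) {d : ℕ}
    (hd : χ 1 = d) : ∃ s t : ℤ, χ y = s + t * (ζ + ζ ^ 4) ∧ χ (y ^ 2) = s + t * (ζ ^ 2 + ζ ^ 3) ∧
      (5 : ℤ) ∣ d - (s + 2 * t) := by
  obtain ⟨a0, h0⟩ := exists_mult hχ (by norm_num) hy (w := 1) (one_pow 5)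
  obtain ⟨a1, h1⟩ := exists_mult hχ (by norm_num) hy (w := ζ) h5
  obtain ⟨a2, h2⟩ := exists_mult hχ (by norm_num) hy (w := ζ ^ 2) (by rw [← pow_mul, mul_comm, pow_mul, h5, one_pow])
  simp only [Finset.sum_range_succ, Finset.sum_range_zero, pow_zero, pow_one, zero_add, mul_one, one_pow, hd, h4,
    h3] at h0 h1 h2
  push_cast at h0 h1 h2
  have r1 : (ζ + ζ ^ 4) + (ζ ^ 2 + ζ ^ 3) = -1 := by linear_combination hs
  have r2 : (ζ + ζ ^ 4) * (ζ ^ 2 + ζ ^ 3) = -1 := by linear_combination (ζ + ζ ^ 2) * h5 + hs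
  have r3 : (ζ + ζ ^ 4) * (ζ + ζ ^ 4) = 2 + (ζ ^ 2 + ζ ^ 3) := by linear_combination (ζ ^ 3 + 2) * h5
  have r4 : (ζ ^ 2 + ζ ^ 3) * (ζ ^ 2 + ζ ^ 3) = 2 + (ζ + ζ ^ 4) := by linear_combination (ζ + 2) * h5
  generalize χ y = α at *
  generalize χ (y ^ 2) = β at *
  have g0 : (d : ℂ) + 2 * α + 2 * β = 5 * a0 := by linear_combination h0
  have g1 : (d : ℂ) + α * (ζ + ζ ^ 4) + β * (ζ ^ 2 + ζ ^ 3) = 5 * a1 := by linear_combination h1
  have g2 : (d : ℂ) + α * (ζ ^ 2 + ζ ^ 3) + β * (ζ + ζ ^ 4) = 5 * a2 := by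
    linear_combination h2 - (β * ζ + α * ζ ^ 3) * h5
  generalize ζ + ζ ^ 4 = e at *
  generalize ζ ^ 2 + ζ ^ 3 = f at *
  refine ⟨a0 - a2, a1 - a2, ?_, ?_, ?_⟩
  · push_cast
    linear_combination (g0 - g2 + (g1 - g2) * e + β * r1 + (α - β) * (r2 - r3)) / 5
  · push_cast
    linear_combination (g0 - g2 + (g1 - g2) * f + α * r1 + (α - β) * (r4 - r2)) / 5
  · have h6 : (d : ℂ) = ((a0 + 2 * a1 + 2 * a2 : ℤ) : ℂ) := by
      push_cast
      linear_combination (g0 + 2 * g1 + 2 * g2 - 2 * (α + β) * r1) / 5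
    have h7 : (d : ℤ) = a0 + 2 * a1 + 2 * a2 := by exact_mod_cast h6
    exact ⟨a2, by rw [h7]; ring⟩

/-- values at the elements of order 7 -/
theorem val_seven {ζ : ℂ} (h7 : ζ ^ 7 = 1) (hs : 1 + ζ + ζ ^ 2 + ζ ^ 3 + ζ ^ 4 + ζ ^ 5 + ζ ^ 6 = 0) {χ : E → ℂ}
    (hχ : IsCharacter E χ) {y : E} (hy : y ^ 7 = 1) (e2 : χ (y ^ 2) = χ y) (e4 : χ (y ^ 4) = χ y)
    (e5 : χ (y ^ 5) = χ (y ^ 3)) (e6 : χ (y ^ 6) = χ (y ^ 3)) {d : ℕ}
    (hd : χ 1 = d) : ∃ s t : ℤ, χ y = s + t * (ζ + ζ ^ 2 + ζ ^ 4) ∧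
      χ (y ^ 3) = s + t * (ζ ^ 3 + ζ ^ 5 + ζ ^ 6) ∧ (7 : ℤ) ∣ d - (s + 3 * t) := by
  obtain ⟨a0, h0⟩ := exists_mult hχ (by norm_num) hy (w := 1) (one_pow 7)
  obtain ⟨a2, h2⟩ := exists_mult hχ (by norm_num) hy (w := ζ) h7
  obtain ⟨a1, h1⟩ := exists_mult hχ (by norm_num) hy (w := ζ ^ 3) (by rw [← pow_mul, mul_comm, pow_mul, h7, one_pow])
  simp only [Finset.sum_range_succ, Finset.sum_range_zero, pow_zero, pow_one, zero_add, mul_one, one_pow, hd, e2, e4,
    e5, e6] at h0 h1 h2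
  push_cast at h0 h1 h2
  have r1 : (ζ + ζ ^ 2 + ζ ^ 4) + (ζ ^ 3 + ζ ^ 5 + ζ ^ 6) = -1 := by linear_combination hs
  have r2 : (ζ + ζ ^ 2 + ζ ^ 4) * (ζ ^ 3 + ζ ^ 5 + ζ ^ 6) = 2 := by
    linear_combination (ζ + ζ ^ 2 + ζ ^ 3 + 3) * h7 + hs
  have r3 : (ζ + ζ ^ 2 + ζ ^ 4) * (ζ + ζ ^ 2 + ζ ^ 4) = (ζ + ζ ^ 2 + ζ ^ 4) + 2 * (ζ ^ 3 + ζ ^ 5 + ζ ^ 6) := by
    linear_combination ζ * h7
  have r4 : (ζ ^ 3 + ζ ^ 5 + ζ ^ 6) * (ζ ^ 3 + ζ ^ 5 + ζ ^ 6) =
      (ζ ^ 3 + ζ ^ 5 + ζ ^ 6) + 2 * (ζ + ζ ^ 2 + ζ ^ 4) := by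
    linear_combination (ζ ^ 3 + ζ ^ 5 + 2 * ζ + 2 * ζ ^ 2 + 2 * ζ ^ 4) * h7
  generalize χ y = α at *
  generalize χ (y ^ 3) = β at *
  have g0 : (d : ℂ) + 3 * α + 3 * β = 7 * a0 := by linear_combination h0
  have g2 : (d : ℂ) + α * (ζ + ζ ^ 2 + ζ ^ 4) + β * (ζ ^ 3 + ζ ^ 5 + ζ ^ 6) = 7 * a2 := by linear_combination h2
  have g1 : (d : ℂ) + α * (ζ ^ 3 + ζ ^ 5 + ζ ^ 6) + β * (ζ + ζ ^ 2 + ζ ^ 4) = 7 * a1 := by
    linear_combination h1 - (β * ζ ^ 2 + α * ζ ^ 5 + β * ζ * (ζ ^ 7 + 1) + β * ζ ^ 4 * (ζ ^ 7 + 1)) * h7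
  generalize ζ + ζ ^ 2 + ζ ^ 4 = e at *
  generalize ζ ^ 3 + ζ ^ 5 + ζ ^ 6 = f at *
  refine ⟨a0 - a2, a1 - a2, ?_, ?_, ?_⟩
  · push_cast
    linear_combination (g0 - g2 + (g1 - g2) * e + (2 * α - β) * r1 + (α - β) * (r3 - r2)) / 7
  · push_cast
    linear_combination (g0 - g2 + (g1 - g2) * f + (2 * β - α) * r1 + (α - β) * (r2 - r4)) / 7
  · have h6 : (d : ℂ) = ((a0 + 3 * a1 + 3 * a2 : ℤ) : ℂ) := by
      push_cast
      linear_combination (g0 + 3 * g1 + 3 * g2 - 3 * (α + β) * r1) / 7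
    have h8 : (d : ℤ) = a0 + 3 * a1 + 3 * a2 := by exact_mod_cast h6
    exact ⟨a2, by rw [h8]; ring⟩

/-- separation of the coefficients -/
theorem sep {e f : ℂ} (hne : e ≠ f) {A B : ℤ} (h1 : (A : ℂ) + B * e = 0) (h2 : (A : ℂ) + B * f = 0) :
    A = 0 ∧ B = 0 := by
  have h3 : (B : ℂ) * (e - f) = 0 := by linear_combination h1 - h2
  rcases mul_eq_zero.1 h3 with h | h
  · rw [h, zero_mul, add_zero] at h1
    exact ⟨by exact_mod_cast h1, by exact_mod_cast h⟩
  · exact absurd (sub_eq_zero.1 h) hne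

end Cfsg.Agent.H407.TI

end
end

-- part: H86/TI/Lift
section
prune_inst 0x4010000
set_option linter.all false
open scoped Cfsg.Agent.FastGrp

/-!
# The count for `3.McL` (helper86, task 5085): lifting to a central extension by a group of order three

* `Ext E Z π` : `π : E → G` surjective with central kernel `Z` of order 3;
* `Good π g` : the centralizer of `π g` lifts to the centralizer of `g`;
* `col_self`, `col_ne` : column orthogonality over a linear character of `Z`.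
-/

set_option autoImplicit false
set_option linter.unusedSectionVars false

open Subgroup Cfsg
open scoped ComplexConjugate

namespace Cfsg.Agent.H86.TI

open Cfsg.Agent.H407.TI Cfsg.Agent.Characters.Core

universe u v

/-- the number of elements conjugating `g` to itself -/
theorem card_conj {G : Type*} [Group G] (g : G) :
    Nat.card {x : G // x * g * x⁻¹ = g} = Nat.card (centralizer ({g} : Set G)) := by
  refine Nat.card_congr (Equiv.subtypeEquivRight fun x => ?_)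
  rw [mem_centralizer_singleton_iff, mul_inv_eq_iff_eq_mul]

theorem card_not_conj {G : Type*} [Group G] {g h : G} (hc : ¬ IsConj g h) :
    Nat.card {x : G // x * g * x⁻¹ = h} = 0 := by
  have : IsEmpty {x : G // x * g * x⁻¹ = h} := ⟨fun ⟨x, hx⟩ => hc (isConj_iff.2 ⟨x, hx⟩)⟩
  exact Nat.card_of_isEmpty

/-- a central extension by a group of order three -/
structure Ext {E : Type u} [Group E] (Z : Subgroup E) {G : Type v} [Group G] (π : E →* G) : Prop where
  surj : Function.Surjective π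
  ker : π.ker = Z
  cen : Z ≤ center E
  card : Nat.card Z = 3

/-- the centralizer of `π g` lifts to the centralizer of `g` -/
def Good {E : Type u} [Group E] {G : Type v} [Group G] (π : E →* G) (g : E) : Prop :=
  ∀ c : E, π c * π g = π g * π c → c * g = g * c

variable {E : Type u} [Group E] {Z : Subgroup E} {G : Type v} [Group G] {π : E →* G}

namespace Ext

variable (h : Ext Z π)
include h

theorem mem_iff {z : E} : z ∈ Z ↔ π z = 1 := by rw [← h.ker, MonoidHom.mem_ker]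

theorem cube {z : E} (hz : z ∈ Z) : z ^ 3 = 1 := by
  have h1 := pow_card_eq_one' (x := (⟨z, hz⟩ : Z))
  rw [h.card] at h1
  exact congrArg Subtype.val h1

theorem comm {z : E} (hz : z ∈ Z) (g : E) : z * g = g * z := (mem_center_iff.1 (h.cen hz) g).symm

theorem eq_one_of_pow {z : E} (hz : z ∈ Z) {m : ℕ} (hm : ¬ 3 ∣ m) (hp : z ^ m = 1) : z = 1 := by
  have h1 : orderOf z ∣ 3 := orderOf_dvd_of_pow_eq_one (h.cube hz)
  have h2 : orderOf z ∣ m := orderOf_dvd_of_pow_eq_one hp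
  rcases (Nat.dvd_prime Nat.prime_three).1 h1 with h3 | h3
  · exact orderOf_eq_one_iff.1 h3
  · rw [h3] at h2
    exact absurd h2 hm

/-- uniqueness of `3'`-lifts -/
theorem inj_of {g k : E} {m n : ℕ} (hm : ¬ 3 ∣ m) (hn : ¬ 3 ∣ n) (hg : g ^ m = 1) (hk : k ^ n = 1)
    (he : π g = π k) : g = k := by
  have hz : g * k⁻¹ ∈ Z := by rw [h.mem_iff, map_mul, map_inv, he, mul_inv_cancel]
  have hcomm : Commute g k := by
    have h1 : (g * k⁻¹) * k = k * (g * k⁻¹) := h.comm hz k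
    have h2 : g = k * (g * k⁻¹) := by rw [← h1]; group
    show g * k = k * g
    calc g * k = k * (g * k⁻¹) * k := by rw [← h2]
      _ = k * g := by group
  have h3 : (g * k⁻¹) ^ (m * n) = 1 := by
    rw [hcomm.inv_right.mul_pow, pow_mul, hg, one_pow, one_mul, mul_comm, pow_mul, inv_pow, hk, inv_one, one_pow]
  exact mul_inv_eq_one.1 (h.eq_one_of_pow hz (fun h3 => by
    rcases Nat.prime_three.dvd_mul.1 h3 with h4 | h4
    · exact hm h4
    · exact hn h4) h3)

/-- existence of `3'`-lifts -/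
theorem exists_lift (k : G) {n : ℕ} (hn : ¬ 3 ∣ n) (hk : k ^ n = 1) : ∃ g : E, π g = k ∧ g ^ n = 1 := by
  obtain ⟨g, hg⟩ := h.surj k
  have hz : g ^ n ∈ Z := by rw [h.mem_iff, map_pow, hg, hk]
  have h3 := h.cube hz
  have h1 : n % 3 = 1 ∨ n % 3 = 2 := by omega
  rcases h1 with h1 | h1
  · refine ⟨g ^ (1 + 2 * n), ?_, ?_⟩
    · rw [map_pow, hg, pow_add, pow_one, mul_comm 2 n, pow_mul, hk, one_pow, mul_one]
    · obtain ⟨m, hm⟩ : 3 ∣ 1 + 2 * n := by omega
      rw [← pow_mul, mul_comm, pow_mul, hm, pow_mul, h3, one_pow]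
  · refine ⟨g ^ (1 + n), ?_, ?_⟩
    · rw [map_pow, hg, pow_add, pow_one, hk, mul_one]
    · obtain ⟨m, hm⟩ : 3 ∣ 1 + n := by omega
      rw [← pow_mul, mul_comm, pow_mul, hm, pow_mul, h3, one_pow]

theorem good_of_pow {g : E} {n : ℕ} (hn : ¬ 3 ∣ n) (hg : g ^ n = 1) : Good π g := by
  intro c hc
  have h1 : c * g * c⁻¹ = g := by
    refine h.inj_of hn hn ?_ hg ?_
    · rw [conj_pow, hg]; group
    · rw [map_mul, map_mul, map_inv, hc]; group
  exact mul_inv_eq_iff_eq_mul.1 h1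

theorem good_one : Good π (1 : E) := fun c _ => by rw [mul_one, one_mul]

theorem good_mul {a b : E} (ha : Good π a) (hb : Good π b) {m n : ℕ} (hm : π a = (π a * π b) ^ m)
    (hn : π b = (π a * π b) ^ n) : Good π (a * b) := by
  intro c hc
  rw [map_mul] at hc
  have h1 : c * a = a * c := ha c (by rw [hm]; exact (Commute.pow_right hc m).eq)
  have h2 : c * b = b * c := hb c (by rw [hn]; exact (Commute.pow_right hc n).eq)
  rw [← mul_assoc, h1, mul_assoc, h2, mul_assoc]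

theorem good_inv {a : E} (ha : Good π a) : Good π a⁻¹ := by
  intro c hc
  rw [map_inv] at hc
  have h1 : Commute (π c) (π a) := (Commute.inv_right_iff.1 hc)
  exact (Commute.inv_right (show Commute c a from ha c h1)).eq

theorem isConj_of {g k : E} {m n : ℕ} (hm : ¬ 3 ∣ m) (hn : ¬ 3 ∣ n) (hg : g ^ m = 1) (hk : k ^ n = 1)
    (hc : IsConj (π g) (π k)) : IsConj g k := by
  obtain ⟨c, hc⟩ := isConj_iff.1 hc
  obtain ⟨c, rfl⟩ := h.surj c
  refine isConj_iff.2 ⟨c, h.inj_of hm hn (by rw [conj_pow, hg]; group) hk ?_⟩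
  rw [map_mul, map_mul, map_inv, hc]

theorem card_E : Nat.card E = 3 * Nat.card G := by
  have h1 : Z.index = Nat.card G := by
    rw [← h.ker, index_ker, MonoidHom.range_eq_top.2 h.surj, card_top]
  rw [← h1, ← h.card, card_mul_index]

theorem card_comap (S : Subgroup G) : Nat.card (S.comap π) = 3 * Nat.card S := by
  have h1 : Nat.card (S.comap π) = Nat.card ((π.comp (S.comap π).subtype).ker) * Nat.card (π.comp (S.comap π).subtype).range := by
    rw [← card_mul_index (π.comp (S.comap π).subtype).ker, index_ker]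
  rw [h1]
  congr 1
  · rw [← h.card]
    refine Nat.card_congr ⟨fun x => ⟨x.1.1, ?_⟩, fun z => ⟨⟨z.1, ?_⟩, ?_⟩, fun x => ?_, fun z => ?_⟩
    · exact h.mem_iff.2 x.2
    · rw [mem_comap, h.mem_iff.1 z.2]; exact S.one_mem
    · exact h.mem_iff.1 z.2
    · rfl
    · rfl
  · congr 1
    rw [MonoidHom.range_comp, range_subtype, map_comap_eq, MonoidHom.range_eq_top.2 h.surj, top_inf_eq]

theorem cent_eq {g : E} (hg : Good π g) : centralizer ({g} : Set E) = (centralizer ({π g} : Set G)).comap π := by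
  ext c
  rw [mem_comap, mem_centralizer_singleton_iff, mem_centralizer_singleton_iff]
  constructor
  · intro hc
    rw [← map_mul, hc, map_mul]
  · exact hg c

theorem card_cent {g : E} (hg : Good π g) :
    Nat.card (centralizer ({g} : Set E)) = 3 * Nat.card (centralizer ({π g} : Set G)) := by
  rw [h.cent_eq hg, h.card_comap]

theorem index_cent {g : E} (hg : Good π g) :
    (centralizer ({g} : Set E)).index = (centralizer ({π g} : Set G)).index := by
  rw [h.cent_eq hg, index_comap_of_surjective _ h.surj]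

/-! ### columns -/

/-- column orthogonality over `lam`, general -/
theorem sum_over' [Finite E] [Fintype (IrrCharacter E)] (lam : Z →* ℂˣ)
    [DecidablePred fun χ : IrrCharacter E => Over Z lam (χ : E → ℂ)] {g k : E}
    (hgk : ∀ z ∈ Z, z ≠ 1 → ¬ IsConj (z * g) k) :
    ∑ χ ∈ Finset.univ.filter (fun χ : IrrCharacter E => Over Z lam (χ : E → ℂ)), (χ : E → ℂ) g * conj ((χ : E → ℂ) k) =
      (Nat.card {x : E // x * g * x⁻¹ = k} : ℂ) / 3 := by
  classical
  have := Fintype.ofFinite E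
  have := Fintype.ofFinite Z
  have hZ0 : (3 : ℂ) ≠ 0 := by norm_num
  rw [eq_div_iff hZ0, Finset.sum_mul, Finset.sum_filter]
  have h3 : ∀ χ : IrrCharacter E, (if Over Z lam (χ : E → ℂ) then
      (χ : E → ℂ) g * conj ((χ : E → ℂ) k) * (3 : ℂ) else 0) =
      ∑ z : Z, (((lam z)⁻¹ : ℂˣ) : ℂ) * ((χ : E → ℂ) (z * g) * conj ((χ : E → ℂ) k)) := by
    intro χ
    have h4 := sum_lam h.cen lam χ.2 g
    rw [Finset.sum_congr rfl fun z _ => (mul_assoc _ _ _).symm, ← Finset.sum_mul, h4, h.card]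
    push_cast
    split_ifs <;> ring
  rw [Finset.sum_congr rfl fun χ _ => h3 χ, Finset.sum_comm, Finset.sum_congr rfl fun z _ => by
    rw [← Finset.mul_sum, S0876.sum_irr_mul_conj]]
  rw [Finset.sum_eq_single (1 : Z)]
  · rw [map_one, inv_one, Units.val_one, one_mul, Subgroup.coe_one, one_mul]
  · intro z _ hz
    rw [card_not_conj (hgk z z.2 fun e => hz (Subtype.ext e)), Nat.cast_zero, mul_zero]
  · intro h4
    exact absurd (Finset.mem_univ _) h4

/-- the norm of a column -/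
theorem col_self [Finite E] [Fintype (IrrCharacter E)] (lam : Z →* ℂˣ)
    [DecidablePred fun χ : IrrCharacter E => Over Z lam (χ : E → ℂ)] {g : E} (hg : Good π g) {n : ℕ}
    (hn : Nat.card (centralizer ({π g} : Set G)) = n) :
    ∑ χ ∈ Finset.univ.filter (fun χ : IrrCharacter E => Over Z lam (χ : E → ℂ)), (χ : E → ℂ) g * conj ((χ : E → ℂ) g) =
      n := by
  rw [h.sum_over' lam, card_conj g, h.card_cent hg, hn]
  · push_cast
    ring
  · intro z hz hz1 hc
    obtain ⟨c, hc⟩ := isConj_iff.1 hc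
    have h1 : c⁻¹ * g = g * c⁻¹ := by
      apply hg
      rw [← map_mul, ← map_mul]
      have h2 : g * c = c * (z * g) := (mul_inv_eq_iff_eq_mul.1 hc).symm
      have h3 : π z = 1 := h.mem_iff.1 hz
      have h4 : π g * π c = π c * π g := by
        have := congrArg π h2
        rwa [map_mul, map_mul, map_mul, h3, one_mul] at this
      rw [map_mul, map_mul, map_inv]
      have h5 : π g = π c * π g * (π c)⁻¹ := by rw [← h4]; group
      calc (π c)⁻¹ * π g = (π c)⁻¹ * (π c * π g * (π c)⁻¹) := by rw [← h5]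
        _ = π g * (π c)⁻¹ := by group
    apply hz1
    have h6 : z * g = c⁻¹ * g * c := by
      have : c⁻¹ * g * c = c⁻¹ * (c * (z * g) * c⁻¹) * c := by rw [hc]
      rw [this]; group
    rw [h1] at h6
    have h7 : z * g = 1 * g := by rw [h6]; group
    exact mul_right_cancel h7

/-- orthogonality of columns -/
theorem col_ne [Finite E] [Fintype (IrrCharacter E)] (lam : Z →* ℂˣ)
    [DecidablePred fun χ : IrrCharacter E => Over Z lam (χ : E → ℂ)] {g k : E} (hc : ¬ IsConj (π g) (π k)) :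
    ∑ χ ∈ Finset.univ.filter (fun χ : IrrCharacter E => Over Z lam (χ : E → ℂ)), (χ : E → ℂ) g * conj ((χ : E → ℂ) k) =
      0 := by
  have key : ∀ z ∈ Z, ¬ IsConj (z * g) k := by
    intro z hz h1
    obtain ⟨c, h1⟩ := isConj_iff.1 h1
    apply hc
    refine isConj_iff.2 ⟨π c, ?_⟩
    rw [← h1, map_mul, map_mul, map_mul, h.mem_iff.1 hz, one_mul, map_inv]
  rw [h.sum_over' lam (fun z hz _ => key z hz), card_not_conj (by
    have := key 1 Z.one_mem
    rwa [one_mul] at this)]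
  simp

/-! ### an element of order three -/

/-- a lift inverted by a given element -/
theorem exists_inv {x c : G} (hx : c * x * c⁻¹ = x⁻¹) {C : E} (hC : π C = c) :
    ∃ X : E, π X = x ∧ C * X * C⁻¹ = X⁻¹ ∧ (x ^ 3 = 1 → X ^ 3 = 1) := by
  obtain ⟨X0, hX0⟩ := h.surj x
  have hz : C * X0 * C⁻¹ * X0 ∈ Z := by
    rw [h.mem_iff, map_mul, map_mul, map_mul, map_inv, hC, hX0, hx, inv_mul_cancel]
  obtain ⟨z, hz1⟩ : ∃ z, z = C * X0 * C⁻¹ * X0 := ⟨_, rfl⟩
  rw [← hz1] at hz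
  have hc := h.comm hz
  have h3 := h.cube hz
  have e1 : C * X0 * C⁻¹ = z * X0⁻¹ := by rw [hz1]; group
  have inv : C * (X0 * z) * C⁻¹ = (X0 * z)⁻¹ := by
    have e2 : C * (X0 * z) * C⁻¹ = C * X0 * C⁻¹ * z := by
      have : C * (X0 * z) * C⁻¹ = C * X0 * (z * C⁻¹) := by group
      rw [this, hc C⁻¹]; group
    rw [e2, e1, mul_inv_rev, hc X0⁻¹, mul_assoc, ← pow_two]
    have e3 : z ^ 2 = z⁻¹ := eq_inv_of_mul_eq_one_left (by rw [← pow_succ]; exact h3)
    rw [e3]
    exact (h.comm (Z.inv_mem hz) X0⁻¹).symm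
  have hX : π (X0 * z) = x := by rw [map_mul, hX0, h.mem_iff.1 hz, mul_one]
  refine ⟨X0 * z, hX, inv, fun hx3 => ?_⟩
  have h6 : (X0 * z) ^ 3 ∈ Z := by rw [h.mem_iff, map_pow, hX, hx3]
  have h7 : C * (X0 * z) ^ 3 * C⁻¹ = (X0 * z) ^ 3 := by rw [← h.comm h6 C]; group
  have h8 : C * (X0 * z) ^ 3 * C⁻¹ = ((X0 * z) ^ 3)⁻¹ := by rw [← conj_pow, inv, inv_pow]
  refine h.eq_one_of_pow h6 (m := 2) (by norm_num) ?_
  rw [h7] at h8
  rw [pow_two]
  nth_rewrite 2 [h8]
  exact mul_inv_cancel _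

/-- the criterion for elements of order three -/
theorem good_three [Finite E] {x : G} {X : E} (hX : π X = x) (h3 : ¬ 3 ^ 8 ∣ Nat.card E) {S : Subgroup G}
    (hS : Nat.card S = 729)
    (hgen : S ≤ _root_.Subgroup.closure ({x} ∪ {g : G | g * x = x * g ∧ ¬ 3 ∣ orderOf g})) : Good π X := by
  classical
  let C : Subgroup E := (centralizer ({x} : Set G)).comap π
  have hCz : ∀ c : C, (c : E) * X * (c : E)⁻¹ * X⁻¹ ∈ Z := by
    intro c
    have h1 : π c * x = x * π c := mem_centralizer_singleton_iff.1 c.2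
    rw [h.mem_iff, map_mul, map_mul, map_mul, map_inv, map_inv, hX, h1]
    group
  let φ : C →* Z := MonoidHom.mk' (fun c => ⟨(c : E) * X * (c : E)⁻¹ * X⁻¹, hCz c⟩) (by
    intro c d
    apply Subtype.ext
    show ((c : E) * d) * X * ((c : E) * d)⁻¹ * X⁻¹ = (c * X * (c : E)⁻¹ * X⁻¹) * (d * X * (d : E)⁻¹ * X⁻¹)
    have h1 := h.comm (hCz d)
    calc ((c : E) * d) * X * ((c : E) * d)⁻¹ * X⁻¹ = c * ((d : E) * X * (d : E)⁻¹ * X⁻¹) * X * (c : E)⁻¹ * X⁻¹ := by group
      _ = ((d : E) * X * (d : E)⁻¹ * X⁻¹) * c * X * (c : E)⁻¹ * X⁻¹ := by rw [h1 c]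
      _ = ((d : E) * X * (d : E)⁻¹ * X⁻¹) * (c * X * (c : E)⁻¹ * X⁻¹) := by group
      _ = _ := by rw [h1])
  have hφ : ∀ c : C, φ c = 1 ↔ (c : E) * X = X * c := by
    intro c
    rw [Subtype.ext_iff]
    show (c : E) * X * (c : E)⁻¹ * X⁻¹ = 1 ↔ _
    rw [mul_inv_eq_one, mul_inv_eq_iff_eq_mul]
  -- the subgroup of `G`
  let K : Subgroup G := (centralizer ({X} : Set E)).map π
  have hSK : S ≤ K := by
    refine hgen.trans ?_
    rw [closure_le]
    rintro g (hg | ⟨hg, hg3⟩)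
    · rw [Set.mem_singleton_iff] at hg
      subst hg
      exact ⟨X, mem_centralizer_singleton_iff.2 rfl, hX⟩
    · obtain ⟨c, hc, hcn⟩ := h.exists_lift g hg3 (pow_orderOf_eq_one g)
      refine ⟨c, mem_centralizer_singleton_iff.2 ?_, hc⟩
      have h1 : X * c * X⁻¹ = c := by
        refine h.inj_of hg3 hg3 (by rw [conj_pow, hcn]; group) hcn ?_
        rw [map_mul, map_mul, map_inv, hX, hc, ← hg]
        group
      exact (mul_inv_eq_iff_eq_mul.1 h1).symm
  have hcent : ∀ c : E, π c ∈ K → c * X = X * c := by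
    rintro c ⟨d, hd, hdc⟩
    have h1 : c * d⁻¹ ∈ Z := by rw [h.mem_iff, map_mul, map_inv, hdc, mul_inv_cancel]
    have h2 := h.comm h1 X
    have h3' : d * X = X * d := mem_centralizer_singleton_iff.1 hd
    calc c * X = (c * d⁻¹) * (d * X) := by group
      _ = (c * d⁻¹ * X) * d := by rw [h3']; group
      _ = X * c := by rw [h2]; group
  -- the kernel
  have hker : 3 ^ 7 ∣ Nat.card φ.ker := by
    have h1 : Nat.card (S.comap π) = 3 ^ 7 := by rw [h.card_comap, hS]; norm_num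
    rw [← h1]
    have hle : ∀ c ∈ S.comap π, π c * x = x * π c := by
      intro c hc
      have h2 := hcent c (hSK hc)
      have := congrArg π h2
      rwa [map_mul, map_mul, hX] at this
    let f : S.comap π →* C := (S.comap π).subtype.codRestrict C (fun c => mem_centralizer_singleton_iff.2 (hle c c.2))
    have hf : Function.Injective f := fun a b hab => Subtype.ext (congrArg (fun w : C => (w : E)) hab)
    have h2 : f.range ≤ φ.ker := by
      rintro _ ⟨c, rfl⟩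
      rw [MonoidHom.mem_ker, hφ]
      exact hcent c (hSK c.2)
    rw [Nat.card_congr (Equiv.ofInjective f hf)]
    exact (card_dvd_of_le h2 :)
  have hcard : Nat.card C = Nat.card φ.ker * Nat.card φ.range := by
    rw [← card_mul_index φ.ker, index_ker]
  have h4 : Nat.card φ.range ∣ 3 := by rw [← h.card]; exact card_subgroup_dvd_card _
  rcases (Nat.dvd_prime Nat.prime_three).1 h4 with h5 | h5
  · intro c hc
    have h6 : φ.range = ⊥ := card_eq_one.1 h5
    have h7 : φ ⟨c, mem_centralizer_singleton_iff.2 (by rw [← hX]; exact hc)⟩ = 1 := by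
      have : φ ⟨c, mem_centralizer_singleton_iff.2 (by rw [← hX]; exact hc)⟩ ∈ φ.range := ⟨_, rfl⟩
      rwa [h6, mem_bot] at this
    exact (hφ _).1 h7
  · exfalso
    apply h3
    have h6 : 3 ^ 8 ∣ Nat.card C := by
      rw [hcard, h5, pow_succ]
      exact Nat.mul_dvd_mul_right hker 3
    exact h6.trans (card_subgroup_dvd_card C)

end Ext

end Cfsg.Agent.H86.TI
end
end
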